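import Groth.Agent.Stk19b.SymAff.Model
import Groth.Agent.Stk19b.SymCurve.Psi
import Groth.Agent.S13605

/-!
# Affine charts of symmetric powers are spectra of symmetric tensors
-/

set_option autoImplicit false
set_option linter.style.haveILetI false
set_option backward.isDefEq.respectTransparency false
set_option backward.isDefEq.respectTransparency.types false

universe u

open CategoryTheory CategoryTheory.Limits AlgebraicGeometry
open Groth.Agent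
open scoped TensorProduct

namespace Groth.Agent.Stk19b.SymAff

variable {X S Y : Scheme.{u}} (f : X ⟶ S) {n : ℕ}

/-- The data of an affine chart of a symmetric power. -/
theorem exists_chart (hAF : SymProd.IsAF f) (q : SymProd.fibPow f n ⟶ Y) (g : Y ⟶ S)
    (hq : SymProd.IsSymProd f n q g) (y : Y) :
    ∃ (V : S.affineOpens) (U : X.affineOpens) (e : U.1 ≤ f ⁻¹ᵁ V.1) (W' : Y.affineOpens) (_ : y ∈ W'.1),
      W'.1 ≤ g ⁻¹ᵁ V.1 ∧ ∀ z, z ∈ q ⁻¹ᵁ W'.1 ↔ (WidePullback.base fun _ : Fin n => f) z ∈ V.1 ∧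
        ∀ i, (WidePullback.π (fun _ : Fin n => f) i) z ∈ U.1 := by
  rcases Nat.eq_zero_or_pos n with rfl | hn
  · obtain ⟨V, hV, hyV, -⟩ := exists_isAffineOpen_mem_and_subset (x := g y) (U := ⊤) trivial
    haveI := SymCurve.isIso_base_zero f
    have hpre : q ⁻¹ᵁ (g ⁻¹ᵁ V) = (WidePullback.base fun _ : Fin 0 => f) ⁻¹ᵁ V := by
      rw [← Scheme.Hom.comp_preimage, hq.over]
    have hW : IsAffineOpen (g ⁻¹ᵁ V) := SGA1Quot.isAffineOpen_of_preimage hq.isQuot (by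
      rw [hpre]; exact hV.preimage _)
    refine ⟨⟨V, hV⟩, ⟨⊥, isAffineOpen_bot X⟩, bot_le, ⟨_, hW⟩, hyV, le_rfl, fun z => ?_⟩
    rw [hpre]
    exact ⟨fun h => ⟨h, fun i => i.elim0⟩, fun h => h.1⟩
  · obtain ⟨V, hV, U, hU, e, W, hWset, -, -, W', hy, hW', hqW⟩ := S13605.result f hAF
      {V : S.Opens | IsAffineOpen V} (fun V hV => hV)
      (fun s => by
        obtain ⟨V, hV, hs, -⟩ := exists_isAffineOpen_mem_and_subset (x := s) (U := ⊤) trivial
        exact ⟨V, hV, hs⟩) n hn q g hq y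
    have hmem : ∀ z, z ∈ q ⁻¹ᵁ W' ↔ ∀ i, (WidePullback.π (fun _ : Fin n => f) i) z ∈ U := fun z => by
      rw [hqW]
      show z ∈ (W : Set _) ↔ _
      rw [hWset]
      simp only [Set.mem_iInter, Set.mem_preimage, SetLike.mem_coe]
    have hbase : ∀ z, z ∈ q ⁻¹ᵁ W' → (WidePullback.base fun _ : Fin n => f) z ∈ V := fun z hz => by
      rw [← WidePullback.π_arrow (fun _ : Fin n => f) ⟨0, hn⟩, Scheme.Hom.comp_apply]
      exact e ((hmem z).1 hz _)
    refine ⟨⟨V, hV⟩, ⟨U, hU⟩, e, ⟨W', hW'⟩, hy, fun w hw => ?_, fun z => ?_⟩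
    · haveI := SGA1Quot.surjective hq.isQuot
      obtain ⟨z, rfl⟩ := q.surjective w
      show g (q z) ∈ V
      rw [← Scheme.Hom.comp_apply, hq.over]
      exact hbase z hw
    · exact ⟨fun h => ⟨hbase z h, (hmem z).1 h⟩, fun h => (hmem z).2 h.2⟩

/-- Sections of a chart of a symmetric power are the symmetric tensors. -/
theorem exists_sections {q : SymProd.fibPow f n ⟶ Y} {g : Y ⟶ S} (hq : SymProd.IsSymProd f n q g)
    (V : S.affineOpens) (U : X.affineOpens) (e : U.1 ≤ f ⁻¹ᵁ V.1) (W' : Y.affineOpens) (e' : W'.1 ≤ g ⁻¹ᵁ V.1)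
    (hmem : ∀ z, z ∈ q ⁻¹ᵁ W'.1 ↔ (WidePullback.base fun _ : Fin n => f) z ∈ V.1 ∧
      ∀ i, (WidePullback.π (fun _ : Fin n => f) i) z ∈ U.1) :
    letI := (f.appLE V.1 U.1 e).hom.toAlgebra
    ∃ ψ : SymTen.TS Γ(S, V.1) Γ(X, U.1) n ≃+* Γ(Y, W'.1),
      ∀ r, ψ (algebraMap Γ(S, V.1) _ r) = (g.appLE V.1 W'.1 e').hom r := by
  letI := (f.appLE V.1 U.1 e).hom.toAlgebra
  let Ω := q ⁻¹ᵁ W'.1
  have hperm : ∀ σ : Equiv.Perm (Fin n), Ω ≤ SymProd.permHom f n σ ⁻¹ᵁ Ω := fun σ =>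
    SGA1.preimage_le_of_inv (SymProd.permActU f n) q hq.isQuot.inv ⟨σ⟩ W'.1
  have hb : Ω ≤ (WidePullback.base fun _ : Fin n => f) ⁻¹ᵁ V.1 := fun z hz => ((hmem z).1 hz).1
  obtain ⟨φ, hφ, hφa, hφp⟩ := exists_model f n e Ω V.2 U.2 hmem hperm hb
  have hinv : ∀ t, φ t ∈ Set.range (q.app W'.1).hom ↔ t ∈ SymTen.TS Γ(S, V.1) Γ(X, U.1) n := fun t => by
    rw [hq.isQuot.range_iff]
    refine ⟨fun h => (SymTen.mem_TS_iff _ _ _ _).2 fun σ => ?_, fun h σ => ?_⟩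
    · rw [← SymTen.perm_apply]
      refine hφ.1 ?_
      have := hφp σ.symm t
      rw [Equiv.symm_symm] at this
      exact this.symm.trans (h ⟨σ.symm⟩)
    · refine (hφp σ.down t).trans (congrArg φ ?_)
      rw [SymTen.perm_apply]
      exact (SymTen.mem_TS_iff _ _ _ _).1 h _
  choose ψ hψ using fun t : SymTen.TS Γ(S, V.1) Γ(X, U.1) n => (hinv t.1).2 t.2
  have hinj := hq.isQuot.injective W'.1
  let ψh : SymTen.TS Γ(S, V.1) Γ(X, U.1) n →+* Γ(Y, W'.1) :=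
    { toFun := ψ
      map_one' := hinj (by rw [hψ, map_one]; exact φ.map_one)
      map_mul' := fun a b => hinj (by rw [hψ, map_mul, hψ, hψ]; exact φ.map_mul _ _)
      map_zero' := hinj (by rw [hψ, map_zero]; exact φ.map_zero)
      map_add' := fun a b => hinj (by rw [hψ, map_add, hψ, hψ]; exact φ.map_add _ _) }
  have hbij : Function.Bijective ψh := by
    refine ⟨fun a b h => Subtype.ext (hφ.1 ?_), fun y => ?_⟩
    · rw [← hψ a, ← hψ b]; exact congrArg _ h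
    · obtain ⟨t, ht⟩ := hφ.2 ((q.app W'.1).hom y)
      exact ⟨⟨t, (hinv t).1 ⟨y, ht.symm⟩⟩, hinj (by
        show (q.app W'.1).hom (ψ _) = _
        rw [hψ]; exact ht)⟩
  refine ⟨RingEquiv.ofBijective ψh hbij, fun r => hinj ?_⟩
  show (q.app W'.1).hom (ψ _) = _
  rw [hψ]
  refine (hφa r).trans ?_
  show _ = (g.appLE V.1 W'.1 e' ≫ q.app W'.1) r
  rw [Scheme.Hom.app_eq_appLE, Scheme.Hom.appLE_comp_appLE]
  exact congrArg (fun t : Γ(S, V.1) ⟶ Γ(SymProd.fibPow f n, Ω) => t r)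
    (SGA1Quot.appLE_congr V.1 Ω _ _ hq.over.symm)

end Groth.Agent.Stk19b.SymAff
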