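import Groth.Prelude.Def_SymProd
import Groth.Prelude.Def_SymTen
import Groth.Agent.SGA1Quot.Factor

/-!
# Affine charts of fibre powers are spectra of tensor powers
-/

set_option autoImplicit false
set_option linter.style.haveILetI false
set_option backward.isDefEq.respectTransparency false
set_option backward.isDefEq.respectTransparency.types false

universe u

open CategoryTheory CategoryTheory.Limits AlgebraicGeometry
open scoped TensorProduct

namespace Groth.Agent.Stk19b.SymAff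

variable {X S : Scheme.{u}} (f : X ⟶ S) (n : ℕ) {V : S.Opens} {U : X.Opens}
  (e : U ≤ f ⁻¹ᵁ V) (Ω : (SymProd.fibPow f n).Opens)

/-- The projection on sections, defined on an open inside the product of copies of `U`. -/
noncomputable def projApp (hπ : ∀ i, Ω ≤ (WidePullback.π (fun _ : Fin n => f) i) ⁻¹ᵁ U) (i : Fin n) :
    Γ(X, U) ⟶ Γ(SymProd.fibPow f n, Ω) :=
  (WidePullback.π (fun _ : Fin n => f) i).appLE U Ω (hπ i)

include e in
theorem projApp_comm (hπ : ∀ i, Ω ≤ (WidePullback.π (fun _ : Fin n => f) i) ⁻¹ᵁ U)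
    (hb : Ω ≤ (WidePullback.base fun _ : Fin n => f) ⁻¹ᵁ V) (i : Fin n) :
    f.appLE V U e ≫ projApp f n Ω hπ i = (WidePullback.base fun _ : Fin n => f).appLE V Ω hb := by
  rw [projApp, Scheme.Hom.appLE_comp_appLE]
  exact SGA1Quot.appLE_congr V Ω _ _ (WidePullback.π_arrow _ _)

/-- An affine chart of the fibre power is the spectrum of the tensor power. -/
theorem exists_model (hV : IsAffineOpen V) (hU : IsAffineOpen U)
    (hΩ : ∀ z, z ∈ Ω ↔ (WidePullback.base fun _ : Fin n => f) z ∈ V ∧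
      ∀ i, (WidePullback.π (fun _ : Fin n => f) i) z ∈ U)
    (hperm : ∀ σ : Equiv.Perm (Fin n), Ω ≤ SymProd.permHom f n σ ⁻¹ᵁ Ω)
    (hb : Ω ≤ (WidePullback.base fun _ : Fin n => f) ⁻¹ᵁ V) :
    letI := (f.appLE V U e).hom.toAlgebra
    ∃ φ : (⨂[Γ(S, V)] _ : Fin n, Γ(X, U)) →+* Γ(SymProd.fibPow f n, Ω),
      Function.Bijective φ ∧
      (∀ r, φ (algebraMap Γ(S, V) _ r) = ((WidePullback.base fun _ : Fin n => f).appLE V Ω hb).hom r) ∧
      ∀ σ t, ((SymProd.permHom f n σ).appLE Ω Ω (hperm σ)).hom (φ t) = φ (SymTen.perm Γ(S, V) Γ(X, U) n σ.symm t) := by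
  classical
  letI := (f.appLE V U e).hom.toAlgebra
  letI : Algebra Γ(S, V) Γ(SymProd.fibPow f n, Ω) :=
    ((WidePullback.base fun _ : Fin n => f).appLE V Ω hb).hom.toAlgebra
  have hπ : ∀ i, Ω ≤ (WidePullback.π (fun _ : Fin n => f) i) ⁻¹ᵁ U := fun i z hz => ((hΩ z).1 hz).2 i
  let πA : Fin n → (Γ(X, U) →ₐ[Γ(S, V)] Γ(SymProd.fibPow f n, Ω)) := fun i =>
    { (projApp f n Ω hπ i).hom with
      commutes' := fun r => congrArg (fun t : Γ(S, V) ⟶ Γ(SymProd.fibPow f n, Ω) => t r)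
        (projApp_comm f n e Ω hπ hb i) }
  let φ : (⨂[Γ(S, V)] _ : Fin n, Γ(X, U)) →ₐ[Γ(S, V)] Γ(SymProd.fibPow f n, Ω) :=
    PiTensorProduct.liftAlgHom
      ((MultilinearMap.mkPiAlgebra Γ(S, V) (Fin n) Γ(SymProd.fibPow f n, Ω)).compLinearMap
        fun i => (πA i).toLinearMap)
      (by simp) (fun x y => by simp [Finset.prod_mul_distrib])
  let T := CommRingCat.of (⨂[Γ(S, V)] _ : Fin n, Γ(X, U))
  let sing : Fin n → (Γ(X, U) ⟶ T) := fun i => CommRingCat.ofHom
    (PiTensorProduct.singleAlgHom (R := Γ(S, V)) (A := fun _ : Fin n => Γ(X, U)) i).toRingHom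
  let alg : Γ(S, V) ⟶ T := CommRingCat.ofHom (algebraMap Γ(S, V) _)
  have hφs : ∀ i b, φ (PiTensorProduct.singleAlgHom (R := Γ(S, V)) (A := fun _ : Fin n => Γ(X, U)) i b) = πA i b :=
    fun i b => by
      simp only [φ, PiTensorProduct.liftAlgHom, PiTensorProduct.singleAlgHom, AlgHom.ofLinearMap_apply]
      show PiTensorProduct.lift _ (PiTensorProduct.tprod _ _) = _
      rw [PiTensorProduct.lift.tprod, MultilinearMap.compLinearMap_apply, MultilinearMap.mkPiAlgebra_apply]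
      rw [Finset.prod_eq_single i]
      · simp
      · intro j _ hj; simp [MonoidHom.mulSingle, Pi.mulSingle_eq_of_ne hj]
      · simp
  let Φ : T ⟶ Γ(SymProd.fibPow f n, Ω) := CommRingCat.ofHom φ.toRingHom
  have hsΦ : ∀ i, sing i ≫ Φ = projApp f n Ω hπ i := fun i => CommRingCat.hom_ext (RingHom.ext fun b => hφs i b)
  have haΦ : alg ≫ Φ = (WidePullback.base fun _ : Fin n => f).appLE V Ω hb :=
    CommRingCat.hom_ext (RingHom.ext fun r => φ.commutes r)
  let a : Spec T ⟶ SymProd.fibPow f n :=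
    WidePullback.lift (Spec.map alg ≫ hV.fromSpec) (fun i => Spec.map (sing i) ≫ hU.fromSpec) (fun i => by
      rw [Category.assoc, ← IsAffineOpen.SpecMap_appLE_fromSpec f hV hU e, ← Spec.map_comp_assoc]
      congr 2
      exact CommRingCat.hom_ext (RingHom.ext fun r =>
        (PiTensorProduct.singleAlgHom (R := Γ(S, V)) (A := fun _ : Fin n => Γ(X, U)) i).commutes r))
  have ha : Set.range a ⊆ Set.range Ω.ι := by
    rintro _ ⟨t, rfl⟩
    rw [Scheme.Opens.range_ι]
    refine (hΩ _).2 ⟨?_, fun i => ?_⟩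
    · rw [← Scheme.Hom.comp_apply, WidePullback.lift_base]
      exact hV.range_fromSpec.le ⟨_, rfl⟩
    · rw [← Scheme.Hom.comp_apply, WidePullback.lift_π]
      exact hU.range_fromSpec.le ⟨_, rfl⟩
  let a' : Spec T ⟶ Ω.toScheme := IsOpenImmersion.lift Ω.ι a ha
  let b : Ω.toScheme ⟶ Spec T := Ω.toSpecΓ ≫ Spec.map Φ
  have hbs : ∀ i, b ≫ Spec.map (sing i) ≫ hU.fromSpec = Ω.ι ≫ WidePullback.π (fun _ : Fin n => f) i := fun i => by
    rw [Category.assoc, ← Spec.map_comp_assoc, hsΦ]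
    exact (SGA1Quot.ι_comp_eq _ hU Ω _).symm
  have hba : b ≫ Spec.map alg ≫ hV.fromSpec = Ω.ι ≫ WidePullback.base (fun _ : Fin n => f) := by
    rw [Category.assoc, ← Spec.map_comp_assoc, haΦ]
    exact (SGA1Quot.ι_comp_eq _ hV Ω _).symm
  have h1 : b ≫ a' = 𝟙 _ := by
    rw [← cancel_mono Ω.ι, Category.assoc, IsOpenImmersion.lift_fac, Category.id_comp]
    refine WidePullback.hom_ext _ _ _ (fun i => ?_) ?_
    · rw [Category.assoc, WidePullback.lift_π, hbs]
    · rw [Category.assoc, WidePullback.lift_base, hba]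
  have h2 : a' ≫ b = 𝟙 _ := by
    obtain ⟨ρ, hρ⟩ := Spec.map_surjective (a' ≫ b)
    have hs : ∀ i, sing i ≫ ρ = sing i := fun i => by
      apply Spec.map_injective
      rw [← cancel_mono hU.fromSpec, Spec.map_comp, Category.assoc, hρ, Category.assoc, hbs,
        IsOpenImmersion.lift_fac_assoc, WidePullback.lift_π]
    have hal : alg ≫ ρ = alg := by
      apply Spec.map_injective
      rw [← cancel_mono hV.fromSpec, Spec.map_comp, Category.assoc, hρ, Category.assoc, hba,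
        IsOpenImmersion.lift_fac_assoc, WidePullback.lift_base]
    let ρA : (⨂[Γ(S, V)] _ : Fin n, Γ(X, U)) →ₐ[Γ(S, V)] (⨂[Γ(S, V)] _ : Fin n, Γ(X, U)) :=
      { ρ.hom with commutes' := fun r => congrArg (fun t : Γ(S, V) ⟶ T => t r) hal }
    have hρ1 : ρA = AlgHom.id _ _ := PiTensorProduct.algHom_ext fun i => AlgHom.ext fun x =>
      congrArg (fun t : Γ(X, U) ⟶ T => t x) (hs i)
    have : ρ = 𝟙 T := CommRingCat.hom_ext (RingHom.ext fun x => DFunLike.congr_fun hρ1 x)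
    rw [← hρ, this, Spec.map_id]
  haveI : IsIso b := ⟨a', h1, h2⟩
  haveI hΩa : IsAffine Ω.toScheme := IsAffine.of_isIso b
  haveI : IsIso Ω.toSpecΓ := (IsAffineOpen.isoSpec (U := Ω) hΩa).isIso_hom
  haveI : IsIso (Spec.map Φ) := IsIso.of_isIso_comp_left Ω.toSpecΓ _
  refine ⟨φ.toRingHom, (isIso_SpecMap_iff.1 inferInstance : Function.Bijective Φ.hom), fun r => φ.commutes r, fun σ t => ?_⟩
  let P : Γ(SymProd.fibPow f n, Ω) →ₐ[Γ(S, V)] Γ(SymProd.fibPow f n, Ω) :=
    { ((SymProd.permHom f n σ).appLE Ω Ω (hperm σ)).hom with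
      commutes' := fun r => by
        show ((WidePullback.base fun _ : Fin n => f).appLE V Ω hb ≫
          (SymProd.permHom f n σ).appLE Ω Ω (hperm σ)) r = _
        rw [Scheme.Hom.appLE_comp_appLE, SGA1Quot.appLE_congr V Ω _ hb (SymProd.permHom_base f n σ)]
        rfl }
  suffices P.comp φ = φ.comp (SymTen.perm Γ(S, V) Γ(X, U) n σ.symm) from DFunLike.congr_fun this t
  refine PiTensorProduct.algHom_ext fun i => AlgHom.ext fun x => ?_
  show P (φ (PiTensorProduct.singleAlgHom (R := Γ(S, V)) (A := fun _ : Fin n => Γ(X, U)) i x)) =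
    φ (SymTen.perm Γ(S, V) Γ(X, U) n σ.symm (PiTensorProduct.singleAlgHom (R := Γ(S, V)) (A := fun _ : Fin n => Γ(X, U)) i x))
  have hperm' : SymTen.perm Γ(S, V) Γ(X, U) n σ.symm
      (PiTensorProduct.singleAlgHom (R := Γ(S, V)) (A := fun _ : Fin n => Γ(X, U)) i x) =
      PiTensorProduct.singleAlgHom (R := Γ(S, V)) (A := fun _ : Fin n => Γ(X, U)) (σ.symm i) x := by
    simp only [PiTensorProduct.singleAlgHom, AlgHom.coe_mk, RingHom.coe_mk, MonoidHom.coe_mk, OneHom.coe_mk]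
    rw [SymTen.perm_tprod]
    congr 1
    funext j
    simp [MonoidHom.mulSingle, Pi.mulSingle, Function.update, Equiv.eq_symm_apply]
  rw [hperm', hφs, hφs]
  show (projApp f n Ω hπ i ≫ (SymProd.permHom f n σ).appLE Ω Ω (hperm σ)) x = projApp f n Ω hπ (σ.symm i) x
  rw [projApp, Scheme.Hom.appLE_comp_appLE, SGA1Quot.appLE_congr U Ω _ (hπ (σ.symm i)) (SymProd.permHom_π f n σ i)]
  rfl

end Groth.Agent.Stk19b.SymAff
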